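import Groth.Agent.SiteBase.PullTensor.Basic

/-! # Inverse image of modules commutes with tensor products -/

universe u

open CategoryTheory MonoidalCategory Limits Opposite

namespace Groth.Agent.SiteBase.PullTensor

lemma isIso_app_of_isColimit {A B : Type*} [Category* A] [Category* B] {I : Type*} [Category* I]
    {F G : A ⥤ B} (α : F ⟶ G) {D : I ⥤ A} {c : Cocone D} (hc : IsColimit c)
    [PreservesColimit D F] [PreservesColimit D G] (h : ∀ i, IsIso (α.app (D.obj i))) :
    IsIso (α.app c.pt) := by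
  let w : D ⋙ F ≅ D ⋙ G := NatIso.ofComponents (fun i => @asIso _ _ _ _ (α.app (D.obj i)) (h i))
    (fun f => α.naturality (D.map f))
  let e := (isColimitOfPreserves F hc).coconePointsIsoOfNatIso (isColimitOfPreserves G hc) w
  have : α.app c.pt = e.hom := (isColimitOfPreserves F hc).hom_ext fun i =>
    (α.naturality (c.ι.app i)).trans (IsColimit.comp_coconePointsIsoOfNatIso_hom (isColimitOfPreserves F hc) (isColimitOfPreserves G hc) w i).symm
  rw [this]; infer_instance

variable {C : Type u} [SmallCategory C] {J : GrothendieckTopology C} {O : Sheaf J CommRingCat.{u}}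

/-- every module is a quotient of a sum of generators -/
lemma epi_genDesc (M : ModSite.Mod O) :
    Epi (Sigma.desc fun i : Σ X : C, M.val.obj (op X) => (genEquiv i.1 M).symm i.2) := by
  refine ⟨fun {H} g h e => SheafOfModules.hom_ext (PresheafOfModules.hom_ext fun X =>
    ModuleCat.hom_ext (LinearMap.ext fun s => ?_))⟩
  have e' : (genEquiv X.unop M).symm s ≫ g = (genEquiv X.unop M).symm s ≫ h := by
    simpa using congrArg (Sigma.ι (fun i : Σ X : C, M.val.obj (op X) => gen O i.1) ⟨X.unop, s⟩ ≫ ·) e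
  have e'' := congrArg (genEquiv X.unop H) e'
  rw [genEquiv_apply, genEquiv_apply] at e''
  have hs : ((genEquiv X.unop M).symm s).val.app X (genSec X.unop) = s :=
    (genEquiv_apply _ _ _).symm.trans ((genEquiv X.unop M).apply_symm_apply s)
  rw [← hs]
  exact e''

lemma exists_presentation_cocone {A : Type*} [Category* A] [Abelian A] {P Q M : A} (p : P ⟶ M) [Epi p]
    (q : Q ⟶ kernel p) [Epi q] :
    ∃ w : (q ≫ kernel.ι p) ≫ p = 0, Nonempty (IsColimit (CokernelCofork.ofπ p w)) :=
  ⟨by rw [Category.assoc, kernel.condition, comp_zero],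
    ⟨isCokernelEpiComp (Abelian.epiIsCokernelOfKernel _ (kernelIsKernel p)) q rfl⟩⟩

lemma isIso_app_of_cofork {A B : Type*} [Category* A] [Category* B] [HasZeroMorphisms A]
    {F G : A ⥤ B} [PreservesColimitsOfShape WalkingParallelPair F]
    [PreservesColimitsOfShape WalkingParallelPair G] (α : F ⟶ G) {P Q M : A} {r : Q ⟶ P} {p : P ⟶ M}
    {w : r ≫ p = 0} (hc : IsColimit (CokernelCofork.ofπ p w)) (hP : IsIso (α.app P))
    (hQ : IsIso (α.app Q)) : IsIso (α.app M) :=
  isIso_app_of_isColimit α hc (fun i => match i with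
    | .zero => hQ
    | .one => hP)

theorem isIso_app_of_gen {B : Type*} [Category* B] {F G : ModSite.Mod O ⥤ B}
    [PreservesColimitsOfSize.{u, u} F] [PreservesColimitsOfSize.{u, u} G] (α : F ⟶ G)
    (h : ∀ X, IsIso (α.app (gen O X))) (M : ModSite.Mod O) : IsIso (α.app M) := by
  have hsum : ∀ M : ModSite.Mod O, IsIso (α.app (∐ fun i : Σ X : C, M.val.obj (op X) => gen O i.1)) :=
    fun M => isIso_app_of_isColimit α (coproductIsCoproduct _) (fun i => h i.as.1)
  let p := Sigma.desc fun i : Σ X : C, M.val.obj (op X) => (genEquiv i.1 M).symm i.2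
  haveI : Epi p := epi_genDesc M
  let q := Sigma.desc fun i : Σ X : C, (kernel p).val.obj (op X) => (genEquiv i.1 (kernel p)).symm i.2
  haveI : Epi q := epi_genDesc (kernel p)
  obtain ⟨w, ⟨hc⟩⟩ := exists_presentation_cocone p q
  haveI : PreservesColimitsOfShape WalkingParallelPair F :=
    (preservesColimitsOfSize_shrink.{0, u, 0, u} F).preservesColimitsOfShape
  haveI : PreservesColimitsOfShape WalkingParallelPair G :=
    (preservesColimitsOfSize_shrink.{0, u, 0, u} G).preservesColimitsOfShape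
  exact isIso_app_of_cofork α hc (hsum M) (hsum (kernel p))

lemma unit_freeMk (X : C) (W : Cᵒᵖ) (a : W.unop ⟶ X) :
    ((shAdj O).unit.app (freeY O X)).app W
        (ModuleCat.freeMk a : (ModuleCat.free (O.obj.obj W)).obj (W.unop ⟶ X)) =
      (gen O X).val.map a.op (genSec X) := by
  refine Eq.trans ?_ (PresheafOfModules.naturality_apply ((shAdj O).unit.app (freeY O X)) a.op
    (ModuleCat.freeMk (𝟙 X) : (ModuleCat.free (O.obj.obj (op X))).obj (X ⟶ X)))
  congr 1
  rw [eq_comm]
  refine (ModuleCat.freeDesc_apply (M := (ModuleCat.restrictScalars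
    ((O.obj ⋙ forget₂ CommRingCat.{u} RingCat.{u}).map a.op).hom).obj ((freeY O X).obj W))
    (↾fun x => ModuleCat.freeMk ((yoneda.obj X).map a.op x)) (𝟙 X)).trans ?_
  exact congrArg ModuleCat.freeMk (Category.comp_id a)

lemma precomp_bijective {A A' B B' : PMod O} (φ : A ⟶ A') (ψ : B ⟶ B')
    [IsIso ((sh O).map (φ ⊗ₘ ψ))] (P : ModSite.Mod O) :
    Function.Bijective fun g : A' ⊗ B' ⟶ (incl O).obj P => (φ ⊗ₘ ψ) ≫ g := by
  have e : (fun g : A' ⊗ B' ⟶ (incl O).obj P => (φ ⊗ₘ ψ) ≫ g) =
      (shAdj O).homEquiv _ _ ∘ (fun g => (sh O).map (φ ⊗ₘ ψ) ≫ g) ∘ ((shAdj O).homEquiv _ _).symm := by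
    funext g
    simp [Adjunction.homEquiv_naturality_left]
  rw [e]
  have hb : Function.Bijective fun g : (sh O).obj (A' ⊗ B') ⟶ P => (sh O).map (φ ⊗ₘ ψ) ≫ g :=
    ⟨fun a b h => (cancel_epi _).1 h, fun b => ⟨inv _ ≫ b, IsIso.hom_inv_id_assoc _ _⟩⟩
  exact ((shAdj O).homEquiv _ _).bijective.comp (hb.comp ((shAdj O).homEquiv _ _).symm.bijective)

instance isIso_sh_map_unit_tensor (A B : PMod O) :
    IsIso ((sh O).map ((shAdj O).unit.app A ⊗ₘ (shAdj O).unit.app B)) := by
  have := isIso_sh_map_whiskerRight ((shAdj O).unit.app A) B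
  have := isIso_sh_map_whiskerLeft ((shAdj O).unit.app B) ((incl O).obj ((sh O).obj A))
  rw [MonoidalCategory.tensorHom_def, Functor.map_comp]
  exact IsIso.comp_isIso' ‹_› ‹_›

instance isIso_sh_map_unit_tensor' {M N : ModSite.Mod O} {A B : PMod O}
    (a : (sh O).obj A ⟶ M) (b : (sh O).obj B ⟶ N) [IsIso a] [IsIso b] :
    IsIso ((sh O).map
      (((shAdj O).unit.app A ≫ (incl O).map a) ⊗ₘ ((shAdj O).unit.app B ≫ (incl O).map b))) := by
  rw [← tensorHom_comp_tensorHom, Functor.map_comp]
  infer_instance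

variable {D : Type u} [SmallCategory D] {K : GrothendieckTopology D}
  {O_C : Sheaf J CommRingCat.{u}} {O_D : Sheaf K CommRingCat.{u}}
  (f : ModSite.RMor O_C O_D)

/-- the comparison is an isomorphism on generators -/
theorem isIso_delta_gen (X Y : D) : IsIso (delta f (gen O_D X) (gen O_D Y)) := by
  refine isIso_of_precomp_bijective _ fun P => ?_
  let φX := (shAdj O_C).unit.app (freeY O_C (f.fn.obj X)) ≫ (incl O_C).map (pullGenHom f X)
  let φY := (shAdj O_C).unit.app (freeY O_C (f.fn.obj Y)) ≫ (incl O_C).map (pullGenHom f Y)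
  -- the target side
  let E₂ := fun g : ((ModSite.tensorBi O_C).obj (f.pull.obj (gen O_D X))).obj (f.pull.obj (gen O_D Y)) ⟶ P =>
    restrictProd f X Y _ (tensFree (A := (incl O_C).obj P) ((φX ⊗ₘ φY) ≫ (shAdj O_C).homEquiv _ _ g))
  have hE₂ : Function.Bijective E₂ :=
    (restrictProd_bijective f X Y ⟨typ ((incl O_C).obj P),
      (CategoryTheory.Presheaf.isSheaf_comp_of_isSheaf J _ (CategoryTheory.forget AddCommGrpCat.{u}) P.isSheaf)⟩).comp
      ((tensFree_bijective _ _ _).comp
        ((precomp_bijective φX φY P).comp ((shAdj O_C).homEquiv _ _).bijective))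
  -- the source side
  let E₁ := fun g : f.pull.obj (((ModSite.tensorBi O_D).obj (gen O_D X)).obj (gen O_D Y)) ⟶ P =>
    tensFree (A := (incl O_D).obj (f.push.obj P))
      (((shAdj O_D).unit.app (freeY O_D X) ⊗ₘ (shAdj O_D).unit.app (freeY O_D Y)) ≫
        (shAdj O_D).homEquiv _ _ (f.adj.homEquiv _ _ g))
  have hE₁ : Function.Bijective E₁ :=
    (tensFree_bijective _ _ _).comp ((precomp_bijective _ _ (f.push.obj P)).comp
      (((shAdj O_D).homEquiv _ _).bijective.comp (f.adj.homEquiv _ _).bijective))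
  have key : E₁ ∘ (fun g => delta f (gen O_D X) (gen O_D Y) ≫ g) = E₂ := by
    funext g
    have e : (shAdj O_D).homEquiv _ _ (f.adj.homEquiv _ _ (delta f (gen O_D X) (gen O_D Y) ≫ g)) =
        psi f (gen O_D X) (gen O_D Y) ≫ (pushP f).map ((incl O_C).map g) := by
      refine (congrArg _ ((f.adj.homEquiv_naturality_right _ g).trans
        (congrArg (· ≫ f.push.map g) (Equiv.apply_symm_apply _ _)))).trans ?_
      refine ((shAdj O_D).homEquiv_naturality_right _ (f.push.map g)).trans ?_
      exact congrArg (· ≫ (incl O_D).map (f.push.map g)) (Equiv.apply_symm_apply _ _)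
    refine (congrArg (fun t => tensFree (A := (incl O_D).obj (f.push.obj P))
      (((shAdj O_D).unit.app (freeY O_D X) ⊗ₘ (shAdj O_D).unit.app (freeY O_D Y)) ≫ t)) e).trans ?_
    ext W p
    have kX : ∀ a : W.unop ⟶ X, (etaP f (gen O_D X)).app W (((shAdj O_D).unit.app (freeY O_D X)).app W
          (ModuleCat.freeMk a : (ModuleCat.free (O_D.obj.obj W)).obj (W.unop ⟶ X))) =
        φX.app (op (f.fn.obj W.unop))
          (ModuleCat.freeMk (f.fn.map a) : (ModuleCat.free (O_C.obj.obj (op (f.fn.obj W.unop)))).obj _) := by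
      intro a
      erw [unit_freeMk]
      refine ((PresheafOfModules.naturality_apply (etaP f (gen O_D X)) a.op (genSec X))).trans ?_
      refine Eq.trans ?_ (congrArg ((pullGenHom f X).val.app _) (unit_freeMk (f.fn.obj X) _ (f.fn.map a))).symm
      refine Eq.trans ?_ (PresheafOfModules.naturality_apply (pullGenHom f X).val (f.fn.map a).op _).symm
      rw [pullGenHom_genSec]
      rfl
    have kY : ∀ a : W.unop ⟶ Y, (etaP f (gen O_D Y)).app W (((shAdj O_D).unit.app (freeY O_D Y)).app W
          (ModuleCat.freeMk a : (ModuleCat.free (O_D.obj.obj W)).obj (W.unop ⟶ Y))) =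
        φY.app (op (f.fn.obj W.unop))
          (ModuleCat.freeMk (f.fn.map a) : (ModuleCat.free (O_C.obj.obj (op (f.fn.obj W.unop)))).obj _) := by
      intro a
      erw [unit_freeMk]
      refine ((PresheafOfModules.naturality_apply (etaP f (gen O_D Y)) a.op (genSec Y))).trans ?_
      refine Eq.trans ?_ (congrArg ((pullGenHom f Y).val.app _) (unit_freeMk (f.fn.obj Y) _ (f.fn.map a))).symm
      refine Eq.trans ?_ (PresheafOfModules.naturality_apply (pullGenHom f Y).val (f.fn.map a).op _).symm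
      rw [pullGenHom_genSec]
      rfl
    show (g.val.app (op (f.fn.obj W.unop)))
        (((shAdj O_C).unit.app _).app (op (f.fn.obj W.unop))
          ((muP f _ _).app W ((etaP f (gen O_D X)).app W (((shAdj O_D).unit.app (freeY O_D X)).app W
              (ModuleCat.freeMk p.1 : (ModuleCat.free (O_D.obj.obj W)).obj (W.unop ⟶ X)))
            ⊗ₜ[O_D.obj.obj W] (etaP f (gen O_D Y)).app W (((shAdj O_D).unit.app (freeY O_D Y)).app W
              (ModuleCat.freeMk p.2 : (ModuleCat.free (O_D.obj.obj W)).obj (W.unop ⟶ Y)))))) = _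
    rw [kX, kY]
    erw [muP_tmul]
    rfl
  rw [← key] at hE₂
  exact (Function.Bijective.of_comp_iff' hE₁ _).1 hE₂

/-- natural in the first variable -/
noncomputable def deltaLeft (N : ModSite.Mod O_D) :
    (ModSite.tensorBi O_D).flip.obj N ⋙ f.pull ⟶
      f.pull ⋙ (ModSite.tensorBi O_C).flip.obj (f.pull.obj N) where
  app M := delta f M N
  naturality {M M'} a := by
    have := delta_natural f a (𝟙 N)
    erw [f.pull.map_id, (incl O_C).map_id, (incl O_D).map_id, tensorHom_id, tensorHom_id] at this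
    exact this

/-- natural in the second variable -/
noncomputable def deltaRight (M : ModSite.Mod O_D) :
    (ModSite.tensorBi O_D).obj M ⋙ f.pull ⟶
      f.pull ⋙ (ModSite.tensorBi O_C).obj (f.pull.obj M) where
  app N := delta f M N
  naturality {N N'} b := by
    have := delta_natural f (𝟙 M) b
    erw [f.pull.map_id, (incl O_C).map_id, (incl O_D).map_id, id_tensorHom, id_tensorHom] at this
    exact this

instance : PreservesColimitsOfSize.{u, u} f.pull := f.adj.leftAdjoint_preservesColimits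

/-- `f^*` commutes with tensor products. -/
theorem isIso_delta (M N : ModSite.Mod O_D) : IsIso (delta f M N) :=
  isIso_app_of_gen (deltaRight f M)
    (fun Y => isIso_app_of_gen (deltaLeft f (gen O_D Y)) (fun X => isIso_delta_gen f X Y) M) N

/-- `f^*(M ⊗ N) ≅ f^* M ⊗ f^* N`. -/
noncomputable def pullTensorIso (M N : ModSite.Mod O_D) :
    f.pull.obj (((ModSite.tensorBi O_D).obj M).obj N) ≅
      ((ModSite.tensorBi O_C).obj (f.pull.obj M)).obj (f.pull.obj N) :=
  @asIso _ _ _ _ (delta f M N) (isIso_delta f M N)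

/-- naturality of `pullTensorIso` -/
noncomputable def pullTensorNatIsoRight (M : ModSite.Mod O_D) :
    (ModSite.tensorBi O_D).obj M ⋙ f.pull ≅ f.pull ⋙ (ModSite.tensorBi O_C).obj (f.pull.obj M) :=
  haveI : ∀ N, IsIso ((deltaRight f M).app N) := fun N => isIso_delta f M N
  haveI := NatIso.isIso_of_isIso_app (deltaRight f M)
  asIso (deltaRight f M)

/-- naturality of `pullTensorIso` -/
noncomputable def pullTensorNatIsoLeft (N : ModSite.Mod O_D) :
    (ModSite.tensorBi O_D).flip.obj N ⋙ f.pull ≅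
      f.pull ⋙ (ModSite.tensorBi O_C).flip.obj (f.pull.obj N) :=
  haveI : ∀ M, IsIso ((deltaLeft f N).app M) := fun M => isIso_delta f M N
  haveI := NatIso.isIso_of_isIso_app (deltaLeft f N)
  asIso (deltaLeft f N)

lemma freeOnEquiv_comp (X : C) {F H : ModSite.Mod O} (g : ModSite.freeOn O X ⟶ F) (h : F ⟶ H) :
    freeOnEquiv X H (g ≫ h) = h.val.app (op X) (freeOnEquiv X F g) := by
  show ((ModSite.extZeroAdj O X).homEquiv _ _ (g ≫ h)).val.app (op (Over.mk (𝟙 X))) (1 : O.obj.obj (op X)) = _
  rw [Adjunction.homEquiv_naturality_right]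
  rfl

/-- `gen X ⟶ j_! O` -/
noncomputable def genToFreeOn (X : C) : gen O X ⟶ ModSite.freeOn O X :=
  (genEquiv X _).symm (freeOnEquiv X (ModSite.freeOn O X) (𝟙 _))

instance isIso_genToFreeOn (X : C) : IsIso (genToFreeOn (O := O) X) := by
  refine isIso_of_precomp_bijective _ fun P => ?_
  have e : (genEquiv X P) ∘ (fun g => genToFreeOn X ≫ g) = freeOnEquiv X P := by
    funext g
    show genEquiv X P (genToFreeOn X ≫ g) = _
    rw [genEquiv_apply]
    show g.val.app (op X) ((genToFreeOn X).val.app (op X) (genSec X)) = _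
    rw [← genEquiv_apply, genToFreeOn, Equiv.apply_symm_apply, ← freeOnEquiv_comp, Category.id_comp]
  have hb := (freeOnEquiv X P).bijective
  rw [← e] at hb
  exact (Function.Bijective.of_comp_iff' (genEquiv X P).bijective _).1 hb

/-- `gen X ≅ j_! O` -/
noncomputable def genIsoFreeOn (X : C) : gen O X ≅ ModSite.freeOn O X :=
  asIso (genToFreeOn X)

/-- `f^* j_{X!} O_D ≅ j_{fX!} O_C` -/
noncomputable def pullFreeOnIso (X : D) :
    f.pull.obj (ModSite.freeOn O_D X) ≅ ModSite.freeOn O_C (f.fn.obj X) :=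
  f.pull.mapIso (genIsoFreeOn X).symm ≪≫ (asIso (pullGenHom f X)).symm ≪≫ genIsoFreeOn _

end Groth.Agent.SiteBase.PullTensor
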