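import Groth.Agent.SiteBase.PullTensor.Gen
import Mathlib.Algebra.Category.ModuleCat.Monoidal.Adjunction
import Mathlib.CategoryTheory.Limits.Preserves.Shapes.BinaryProducts

/-! # The comparison `f^*(M ⊗ N) ⟶ f^* M ⊗ f^* N` -/

universe u

open CategoryTheory MonoidalCategory Limits Opposite

namespace Groth.Agent.SiteBase.PullTensor

variable {C D : Type u} [SmallCategory C] [SmallCategory D] {J : GrothendieckTopology C}
  {K : GrothendieckTopology D} {O_C : Sheaf J CommRingCat.{u}} {O_D : Sheaf K CommRingCat.{u}}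
  (f : ModSite.RMor O_C O_D)

lemma monoidal_square {V : Type*} [Category* V] [MonoidalCategory V] {A A' B B' E E' F F' P P' Q Q' : V}
    {a : A ⟶ A'} {b : B ⟶ B'} {η : A ⟶ E} {η' : A' ⟶ E'} {ξ : B ⟶ F} {ξ' : B' ⟶ F'}
    {a' : E ⟶ E'} {b' : F ⟶ F'} {μ : E ⊗ F ⟶ P} {μ' : E' ⊗ F' ⟶ P'} {c : P ⟶ P'}
    {u : P ⟶ Q} {u' : P' ⟶ Q'} {d : Q ⟶ Q'} (h₁ : a ≫ η' = η ≫ a') (h₂ : b ≫ ξ' = ξ ≫ b')
    (h₃ : (a' ⊗ₘ b') ≫ μ' = μ ≫ c) (h₄ : c ≫ u' = u ≫ d) :
    (a ⊗ₘ b) ≫ (η' ⊗ₘ ξ') ≫ μ' ≫ u' = ((η ⊗ₘ ξ) ≫ μ ≫ u) ≫ d := by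
  rw [← Category.assoc, tensorHom_comp_tensorHom, h₁, h₂, ← tensorHom_comp_tensorHom, Category.assoc,
    reassoc_of% h₃, h₄, Category.assoc, Category.assoc]

/-- direct image of presheaves of modules -/
noncomputable abbrev pushP : PMod O_C ⥤ PMod O_D :=
  PresheafOfModules.pushforward (F := f.fn) (R := O_C.obj ⋙ forget₂ CommRingCat.{u} RingCat.{u})
    (S := O_D.obj ⋙ forget₂ CommRingCat.{u} RingCat.{u}) f.sharpR.hom

/-- the ring map on sections -/
abbrev sharpAt (X : Dᵒᵖ) : O_D.obj.obj X ⟶ O_C.obj.obj (op (f.fn.obj X.unop)) := f.sharp.hom.app X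

/-- lax monoidal structure of the direct image -/
noncomputable def muP (A B : PMod O_C) :
    (pushP f).obj A ⊗ (pushP f).obj B ⟶ (pushP f).obj (A ⊗ B) where
  app X := Functor.LaxMonoidal.μ (ModuleCat.restrictScalars (sharpAt f X).hom)
    (A.obj (op (f.fn.obj X.unop))) (B.obj (op (f.fn.obj X.unop)))
  naturality {X Y} g := ModuleCat.MonoidalCategory.tensor_ext fun a b => by
    show Functor.LaxMonoidal.μ (ModuleCat.restrictScalars (sharpAt f Y).hom) _ _
        (((pushP f).obj A).map g a ⊗ₜ[O_D.obj.obj Y] ((pushP f).obj B).map g b) =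
      (A ⊗ B).map (f.fn.map g.unop).op
        (Functor.LaxMonoidal.μ (ModuleCat.restrictScalars (sharpAt f X).hom) _ _ (a ⊗ₜ[O_D.obj.obj X] b))
    erw [ModuleCat.restrictScalars_μ_tmul, ModuleCat.restrictScalars_μ_tmul]
    rfl

lemma muP_tmul (A B : PMod O_C) (X : Dᵒᵖ) (a : ((pushP f).obj A).obj X) (b : ((pushP f).obj B).obj X) :
    (muP f A B).app X (a ⊗ₜ[O_D.obj.obj X] b) =
      ((show A.obj (op (f.fn.obj X.unop)) from a) ⊗ₜ[O_C.obj.obj (op (f.fn.obj X.unop))]
        (show B.obj (op (f.fn.obj X.unop)) from b)) :=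
  ModuleCat.restrictScalars_μ_tmul (sharpAt f X).hom _ _ a b

lemma muP_natural {A A' B B' : PMod O_C} (a : A ⟶ A') (b : B ⟶ B') :
    ((pushP f).map a ⊗ₘ (pushP f).map b) ≫ muP f A' B' = muP f A B ≫ (pushP f).map (a ⊗ₘ b) := by
  refine PresheafOfModules.hom_ext fun X => ModuleCat.MonoidalCategory.tensor_ext fun x y => ?_
  show (muP f A' B').app X ((((pushP f).map a).app X x) ⊗ₜ[O_D.obj.obj X] (((pushP f).map b).app X y)) =
    (a ⊗ₘ b).app (op (f.fn.obj X.unop)) ((muP f A B).app X (x ⊗ₜ[O_D.obj.obj X] y))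
  erw [muP_tmul, muP_tmul]
  rfl

/-- unit of `f^* ⊣ f_*` on underlying presheaves -/
noncomputable abbrev etaP (M : ModSite.Mod O_D) :
    (incl O_D).obj M ⟶ (pushP f).obj ((incl O_C).obj (f.pull.obj M)) :=
  (incl O_D).map (f.adj.unit.app M)

lemma etaP_natural {M M' : ModSite.Mod O_D} (a : M ⟶ M') :
    (incl O_D).map a ≫ etaP f M' = etaP f M ≫ (pushP f).map ((incl O_C).map (f.pull.map a)) :=
  (((incl O_D).map_comp _ _).symm.trans
    (congrArg (incl O_D).map (f.adj.unit.naturality a))).trans ((incl O_D).map_comp _ _)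

/-- adjunct of the comparison -/
noncomputable def psi (M N : ModSite.Mod O_D) :
    (incl O_D).obj M ⊗ (incl O_D).obj N ⟶
      (incl O_D).obj (f.push.obj (((ModSite.tensorBi O_C).obj (f.pull.obj M)).obj (f.pull.obj N))) :=
  (etaP f M ⊗ₘ etaP f N) ≫ muP f _ _ ≫
    (pushP f).map ((shAdj O_C).unit.app ((incl O_C).obj (f.pull.obj M) ⊗ (incl O_C).obj (f.pull.obj N)))

/-- the comparison map -/
noncomputable def delta (M N : ModSite.Mod O_D) :
    f.pull.obj (((ModSite.tensorBi O_D).obj M).obj N) ⟶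
      ((ModSite.tensorBi O_C).obj (f.pull.obj M)).obj (f.pull.obj N) :=
  (f.adj.homEquiv _ _).symm (((shAdj O_D).homEquiv _ _).symm (psi f M N))

lemma delta_natural {M M' N N' : ModSite.Mod O_D} (a : M ⟶ M') (b : N ⟶ N') :
    f.pull.map ((sh O_D).map ((incl O_D).map a ⊗ₘ (incl O_D).map b)) ≫ delta f M' N' =
      delta f M N ≫ (sh O_C).map ((incl O_C).map (f.pull.map a) ⊗ₘ (incl O_C).map (f.pull.map b)) := by
  rw [delta, delta]
  erw [← f.adj.homEquiv_naturality_left_symm, ← f.adj.homEquiv_naturality_right_symm,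
    ← (shAdj O_D).homEquiv_naturality_left_symm, ← (shAdj O_D).homEquiv_naturality_right_symm]
  refine congrArg _ (congrArg _ ?_)
  exact monoidal_square (etaP_natural f a) (etaP_natural f b)
    (muP_natural f ((incl O_C).map (f.pull.map a)) ((incl O_C).map (f.pull.map b)))
    (((pushP f).map_comp _ _).symm.trans
      ((congrArg (pushP f).map ((shAdj O_C).unit.naturality
        ((incl O_C).map (f.pull.map a) ⊗ₘ (incl O_C).map (f.pull.map b)))).trans ((pushP f).map_comp _ _)))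

/-! ### Pullback of generators -/

/-- `Hom(f^* gen X, P) = P(f X)` -/
noncomputable def pullGenEquiv (X : D) (P : ModSite.Mod O_C) :
    (f.pull.obj (gen O_D X) ⟶ P) ≃ P.val.obj (op (f.fn.obj X)) :=
  (f.adj.homEquiv _ _).trans (genEquiv X (f.push.obj P))

/-- the generator of `f^* gen X` -/
noncomputable def pullGenSec (X : D) : (f.pull.obj (gen O_D X)).val.obj (op (f.fn.obj X)) :=
  (f.adj.unit.app (gen O_D X)).val.app (op X) (genSec X)

lemma pullGenEquiv_apply (X : D) (P : ModSite.Mod O_C) (g : f.pull.obj (gen O_D X) ⟶ P) :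
    pullGenEquiv f X P g = g.val.app (op (f.fn.obj X)) (pullGenSec f X) := by
  rw [pullGenEquiv, Equiv.trans_apply]
  refine (genEquiv_apply X (f.push.obj P) _).trans ?_
  rw [Adjunction.homEquiv_unit]
  rfl

/-- `gen (f X) ⟶ f^* gen X` -/
noncomputable def pullGenHom (X : D) : gen O_C (f.fn.obj X) ⟶ f.pull.obj (gen O_D X) :=
  (genEquiv _ _).symm (pullGenSec f X)

lemma pullGenHom_genSec (X : D) :
    (pullGenHom f X).val.app (op (f.fn.obj X)) (genSec (f.fn.obj X)) = pullGenSec f X := by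
  rw [← genEquiv_apply, pullGenHom, Equiv.apply_symm_apply]

instance isIso_pullGenHom (X : D) : IsIso (pullGenHom f X) := by
  refine isIso_of_precomp_bijective _ fun P => ?_
  have e : (genEquiv (f.fn.obj X) P) ∘ (fun g => pullGenHom f X ≫ g) = pullGenEquiv f X P := by
    funext g
    show genEquiv _ _ (pullGenHom f X ≫ g) = _
    rw [genEquiv_apply, pullGenEquiv_apply, ← pullGenHom_genSec]
    rfl
  have := (pullGenEquiv f X P).bijective
  rw [← e] at this
  exact Function.Bijective.of_comp_iff' (genEquiv _ P).bijective _ |>.mp this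

/-! ### Exactness on products of representables -/

/-- restriction of a natural map on `h_{fX} × h_{fY}` to `D` -/
def restrictProd (X Y : D) (Q : Cᵒᵖ ⥤ Type u) (k : prodPre (f.fn.obj X) (f.fn.obj Y) ⟶ Q) :
    prodPre X Y ⟶ f.fn.op ⋙ Q where
  app W := ↾fun p => k.app (op (f.fn.obj W.unop)) (f.fn.map p.1, f.fn.map p.2)
  naturality {V W} h := by
    ext p
    let p' : (prodPre (f.fn.obj X) (f.fn.obj Y)).obj (op (f.fn.obj V.unop)) := (f.fn.map p.1, f.fn.map p.2)
    refine Eq.trans ?_ (ConcreteCategory.congr_hom (k.naturality (f.fn.map h.unop).op) p')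
    show k.app _ (f.fn.map (h.unop ≫ p.1), f.fn.map (h.unop ≫ p.2)) = _
    rw [Functor.map_comp, Functor.map_comp]
    rfl

/-- sheafified inverse image of presheaves of sets -/
noncomputable abbrev pullSet : (Dᵒᵖ ⥤ Type u) ⥤ Sheaf J (Type u) :=
  presheafToSheaf K (Type u) ⋙ f.fn.sheafPullback (Type u) K J

/-- its adjunction -/
noncomputable def pullSetAdj :
    pullSet f ⊣ f.fn.sheafPushforwardContinuous (Type u) K J ⋙ sheafToPresheaf K (Type u) :=
  (sheafificationAdjunction K (Type u)).comp (f.fn.sheafAdjunctionContinuous (Type u) K J)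

/-- the canonical map `h_X → u_* (h_{uX})^#` -/
noncomputable def yonUnit (X : D) : yoneda.obj X ⟶
    f.fn.op ⋙ ((presheafToSheaf J (Type u)).obj (yoneda.obj (f.fn.obj X))).obj :=
  yonedaEquiv.symm
    (((sheafificationAdjunction J (Type u)).unit.app (yoneda.obj (f.fn.obj X))).app _ (𝟙 _))

theorem isIso_pullSet_yoneda (X : D) :
    IsIso (((pullSetAdj f).homEquiv (yoneda.obj X)
      ((presheafToSheaf J (Type u)).obj (yoneda.obj (f.fn.obj X)))).symm (yonUnit f X)) := by
  set θ := ((pullSetAdj f).homEquiv (yoneda.obj X)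
    ((presheafToSheaf J (Type u)).obj (yoneda.obj (f.fn.obj X)))).symm (yonUnit f X)
  have hb : ∀ Q : Sheaf J (Type u), Function.Bijective fun g : _ ⟶ Q => θ ≫ g := fun Q => by
    let e₁ := ((pullSetAdj f).homEquiv (yoneda.obj X) Q).trans yonedaEquiv
    let e₂ := ((sheafificationAdjunction J (Type u)).homEquiv (yoneda.obj (f.fn.obj X)) Q).trans
      yonedaEquiv
    have e : e₁ ∘ (fun g => θ ≫ g) = e₂ := by
      funext g
      show yonedaEquiv ((pullSetAdj f).homEquiv _ Q (θ ≫ g)) = _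
      rw [Adjunction.homEquiv_naturality_right, Equiv.apply_symm_apply, yonedaEquiv_comp, yonUnit]
      erw [Equiv.apply_symm_apply]
      show _ = yonedaEquiv ((sheafificationAdjunction J (Type u)).homEquiv _ Q g)
      rw [Adjunction.homEquiv_unit, yonedaEquiv_comp]
      rfl
    have := e₂.bijective
    rw [← e] at this
    exact Function.Bijective.of_comp_iff' e₁.bijective _ |>.mp this
  obtain ⟨g, hg⟩ := (hb _).2 (𝟙 _)
  refine ⟨g, hg, (hb _).1 ?_⟩
  simp only at hg ⊢
  rw [reassoc_of% hg, Category.comp_id]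

theorem restrictProd_bijective (X Y : D) (Q : Sheaf J (Type u)) :
    Function.Bijective (restrictProd f X Y Q.obj) := by
  let T := prodPre (f.fn.obj X) (f.fn.obj Y)
  let sA := sheafificationAdjunction J (Type u)
  let u' : prodPre X Y ⟶
      (f.fn.sheafPushforwardContinuous (Type u) K J ⋙ sheafToPresheaf K (Type u)).obj
        ((presheafToSheaf J (Type u)).obj T) := restrictProd f X Y _ (sA.unit.app T)
  let Θ := ((pullSetAdj f).homEquiv (prodPre X Y) ((presheafToSheaf J (Type u)).obj T)).symm u'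
  let bC := mapIsLimitOfPreservesOfIsLimit (presheafToSheaf J (Type u)) _ _
    (prodPreIsLimit (f.fn.obj X) (f.fn.obj Y))
  haveI : PreservesFiniteLimits (pullSet f) := comp_preservesFiniteLimits _ _
  let bD := mapIsLimitOfPreservesOfIsLimit (pullSet f) _ _ (prodPreIsLimit X Y)
  haveI := isIso_pullSet_yoneda f X
  haveI := isIso_pullSet_yoneda f Y
  let θX := ((pullSetAdj f).homEquiv _ _).symm (yonUnit f X)
  let θY := ((pullSetAdj f).homEquiv _ _).symm (yonUnit f Y)
  have h₁ : Θ ≫ (presheafToSheaf J (Type u)).map (prodFst _ _) =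
      (pullSet f).map (prodFst X Y) ≫ θX := by
    rw [← Adjunction.homEquiv_naturality_right_symm, ← Adjunction.homEquiv_naturality_left_symm]
    refine congrArg _ ?_
    ext W p
    let p' : T.obj (op (f.fn.obj W.unop)) := (f.fn.map p.1, f.fn.map p.2)
    refine (ConcreteCategory.congr_hom (congr_app (sA.unit.naturality (prodFst (f.fn.obj X) (f.fn.obj Y)))
      (op (f.fn.obj W.unop))) p').symm.trans ?_
    show (sA.unit.app (yoneda.obj (f.fn.obj X))).app (op (f.fn.obj W.unop)) (f.fn.map p.1) = _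
    refine Eq.trans ?_ (ConcreteCategory.congr_hom
      ((sA.unit.app (yoneda.obj (f.fn.obj X))).naturality (f.fn.map p.1).op) (𝟙 (f.fn.obj X)))
    exact congrArg _ (Category.comp_id (f.fn.map p.1)).symm
  have h₂ : Θ ≫ (presheafToSheaf J (Type u)).map (prodSnd _ _) =
      (pullSet f).map (prodSnd X Y) ≫ θY := by
    rw [← Adjunction.homEquiv_naturality_right_symm, ← Adjunction.homEquiv_naturality_left_symm]
    refine congrArg _ ?_
    ext W p
    let p' : T.obj (op (f.fn.obj W.unop)) := (f.fn.map p.1, f.fn.map p.2)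
    refine (ConcreteCategory.congr_hom (congr_app (sA.unit.naturality (prodSnd (f.fn.obj X) (f.fn.obj Y)))
      (op (f.fn.obj W.unop))) p').symm.trans ?_
    show (sA.unit.app (yoneda.obj (f.fn.obj Y))).app (op (f.fn.obj W.unop)) (f.fn.map p.2) = _
    refine Eq.trans ?_ (ConcreteCategory.congr_hom
      ((sA.unit.app (yoneda.obj (f.fn.obj Y))).naturality (f.fn.map p.2).op) (𝟙 (f.fn.obj Y)))
    exact congrArg _ (Category.comp_id (f.fn.map p.2)).symm
  obtain ⟨g, hg₁, hg₂⟩ := BinaryFan.IsLimit.lift' bD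
    ((presheafToSheaf J (Type u)).map (prodFst _ _) ≫ inv θX)
    ((presheafToSheaf J (Type u)).map (prodSnd _ _) ≫ inv θY)
  have hΘ : IsIso Θ := by
    refine ⟨g, BinaryFan.IsLimit.hom_ext bD ?_ ?_, BinaryFan.IsLimit.hom_ext bC ?_ ?_⟩
    · refine (Category.assoc _ _ _).trans ((congrArg (Θ ≫ ·) hg₁).trans ?_)
      show Θ ≫ _ ≫ inv θX = 𝟙 _ ≫ (pullSet f).map (prodFst X Y)
      rw [← Category.assoc, h₁, Category.assoc, IsIso.hom_inv_id, Category.comp_id, Category.id_comp]
    · refine (Category.assoc _ _ _).trans ((congrArg (Θ ≫ ·) hg₂).trans ?_)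
      show Θ ≫ _ ≫ inv θY = 𝟙 _ ≫ (pullSet f).map (prodSnd X Y)
      rw [← Category.assoc, h₂, Category.assoc, IsIso.hom_inv_id, Category.comp_id, Category.id_comp]
    · refine (Category.assoc _ _ _).trans ((congrArg (g ≫ ·) h₁).trans ?_)
      refine (Category.assoc _ _ _).symm.trans ((congrArg (· ≫ θX) hg₁).trans ?_)
      show (_ ≫ inv θX) ≫ θX = 𝟙 _ ≫ _
      rw [Category.assoc, IsIso.inv_hom_id, Category.comp_id, Category.id_comp]
      rfl
    · refine (Category.assoc _ _ _).trans ((congrArg (g ≫ ·) h₂).trans ?_)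
      refine (Category.assoc _ _ _).symm.trans ((congrArg (· ≫ θY) hg₂).trans ?_)
      show (_ ≫ inv θY) ≫ θY = 𝟙 _ ≫ _
      rw [Category.assoc, IsIso.inv_hom_id, Category.comp_id, Category.id_comp]
      rfl
  let eC := sA.homEquiv T Q
  let eD := (pullSetAdj f).homEquiv (prodPre X Y) Q
  have e : restrictProd f X Y Q.obj ∘ eC = eD ∘ fun g => Θ ≫ g := by
    funext k
    show restrictProd f X Y Q.obj (sA.homEquiv T Q k) = (pullSetAdj f).homEquiv _ Q (Θ ≫ k)
    rw [Adjunction.homEquiv_naturality_right, Equiv.apply_symm_apply, Adjunction.homEquiv_unit]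
    rfl
  have hb : Function.Bijective (eD ∘ fun g => Θ ≫ g) :=
    eD.bijective.comp ⟨fun a b h => (cancel_epi Θ).1 h, fun b => ⟨inv Θ ≫ b, IsIso.hom_inv_id_assoc _ _⟩⟩
  rw [← e] at hb
  exact (Function.Bijective.of_comp_iff _ eC.bijective).1 hb

end Groth.Agent.SiteBase.PullTensor
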