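import Groth.Agent.SiteBase.ModHom
import Mathlib.Algebra.Category.ModuleCat.Presheaf.Free
import Mathlib.CategoryTheory.Limits.Shapes.BinaryProducts

/-! # Free generators `sh (free h_X)` of sheaves of modules and their tensor products -/

universe u

open CategoryTheory MonoidalCategory Limits Opposite

namespace Groth.Agent.SiteBase.PullTensor

variable {C : Type u} [SmallCategory C] {J : GrothendieckTopology C} (O : Sheaf J CommRingCat.{u})

/-- underlying presheaf of types -/
noncomputable abbrev typ {O : Sheaf J CommRingCat.{u}} (A : PMod O) : Cᵒᵖ ⥤ Type u :=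
  A.presheaf ⋙ CategoryTheory.forget AddCommGrpCat.{u}

/-- free presheaf of modules on a representable -/
noncomputable abbrev freeY (X : C) : PMod O :=
  (PresheafOfModules.free (O.obj ⋙ forget₂ CommRingCat.{u} RingCat.{u})).obj (yoneda.obj X)

/-- free sheaf of modules on a representable -/
noncomputable abbrev gen (X : C) : ModSite.Mod O := (sh O).obj (freeY O X)

variable {O}

/-- `Hom(free h_X, A) = A(X)` -/
noncomputable def freeYEquiv (X : C) (A : PMod O) : (freeY O X ⟶ A) ≃ A.obj (op X) :=
  PresheafOfModules.freeHomEquiv.trans yonedaEquiv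

/-- the generator of `sh (free h_X)` -/
noncomputable def genSec (X : C) : (gen O X).val.obj (op X) :=
  freeYEquiv X _ ((shAdj O).unit.app (freeY O X))

/-- `Hom(gen X, M) = M(X)` -/
noncomputable def genEquiv (X : C) (M : ModSite.Mod O) : (gen O X ⟶ M) ≃ M.val.obj (op X) :=
  ((shAdj O).homEquiv _ _).trans (freeYEquiv X _)

lemma genEquiv_apply (X : C) (M : ModSite.Mod O) (g : gen O X ⟶ M) :
    genEquiv X M g = g.val.app (op X) (genSec X) := by
  rw [genEquiv, Equiv.trans_apply, Adjunction.homEquiv_unit]
  rfl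

/-- the presheaf `h_X × h_Y` -/
def prodPre (X Y : C) : Cᵒᵖ ⥤ Type u where
  obj W := (W.unop ⟶ X) × (W.unop ⟶ Y)
  map g := ↾fun p => (g.unop ≫ p.1, g.unop ≫ p.2)

/-- first projection -/
def prodFst (X Y : C) : prodPre X Y ⟶ yoneda.obj X where
  app W := ↾fun p => p.1

/-- second projection -/
def prodSnd (X Y : C) : prodPre X Y ⟶ yoneda.obj Y where
  app W := ↾fun p => p.2

/-- the underlying natural map of a map out of `free h_X ⊗ free h_Y` -/
noncomputable def tensFree {X Y : C} {A : PMod O} (g : freeY O X ⊗ freeY O Y ⟶ A) :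
    prodPre X Y ⟶ typ A where
  app W := ↾fun p => g.app W
    ((ModuleCat.freeMk p.1 : (ModuleCat.free (O.obj.obj W)).obj (W.unop ⟶ X)) ⊗ₜ[O.obj.obj W]
      (ModuleCat.freeMk p.2 : (ModuleCat.free (O.obj.obj W)).obj (W.unop ⟶ Y)))
  naturality {V W} h := by
    ext p
    show g.app W _ = A.map h (g.app V _)
    rw [← PresheafOfModules.naturality_apply]
    congr 1
    show _ = ((freeY O X).map h (ModuleCat.freeMk p.1)) ⊗ₜ[O.obj.obj W]
      ((freeY O Y).map h (ModuleCat.freeMk p.2))
    congr 1
    · rw [eq_comm]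
      exact ModuleCat.freeDesc_apply (M := (ModuleCat.restrictScalars ((O.obj ⋙ forget₂ CommRingCat.{u} RingCat.{u}).map h).hom).obj
        ((freeY O X).obj W)) (↾fun x => ModuleCat.freeMk ((yoneda.obj X).map h x)) p.1
    · rw [eq_comm]
      exact ModuleCat.freeDesc_apply (M := (ModuleCat.restrictScalars ((O.obj ⋙ forget₂ CommRingCat.{u} RingCat.{u}).map h).hom).obj
        ((freeY O Y).obj W)) (↾fun x => ModuleCat.freeMk ((yoneda.obj Y).map h x)) p.2

/-- the bilinear map determined by values on generators -/
noncomputable def tensFreeBilin {X Y : C} {A : PMod O} (b : prodPre X Y ⟶ typ A) (W : Cᵒᵖ) :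
    ((W.unop ⟶ X) →₀ O.obj.obj W) →ₗ[O.obj.obj W]
      ((W.unop ⟶ Y) →₀ O.obj.obj W) →ₗ[O.obj.obj W] A.obj W :=
  Finsupp.lift _ (O.obj.obj W) (W.unop ⟶ X) fun a =>
    Finsupp.lift (A.obj W) (O.obj.obj W) (W.unop ⟶ Y) fun c => b.app W (a, c)

theorem tensFree_bijective (X Y : C) (A : PMod O) :
    Function.Bijective (tensFree : (freeY O X ⊗ freeY O Y ⟶ A) → (prodPre X Y ⟶ typ A)) := by
  constructor
  · intro g h e
    refine PresheafOfModules.hom_ext fun W => ?_
    apply ModuleCat.hom_ext
    refine TensorProduct.ext (Finsupp.lhom_ext' fun a => LinearMap.ext_ring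
      (Finsupp.lhom_ext' fun c => LinearMap.ext_ring ?_))
    exact ConcreteCategory.congr_hom (congr_app e W) (show (prodPre X Y).obj W from (a, c))
  · intro b
    have key : ∀ (W : Cᵒᵖ) (a : W.unop ⟶ X) (c : W.unop ⟶ Y),
        TensorProduct.lift (tensFreeBilin b W)
          (Finsupp.single a (1 : O.obj.obj W) ⊗ₜ[O.obj.obj W] Finsupp.single c (1 : O.obj.obj W)) =
        b.app W (a, c) := fun W a c => by
      erw [TensorProduct.lift.tmul]
      simp [tensFreeBilin]
    have hnat : ∀ (V W : Cᵒᵖ) (h : V ⟶ W) (a : V.unop ⟶ X) (c : V.unop ⟶ Y),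
        b.app W (h.unop ≫ a, h.unop ≫ c) = A.map h (b.app V (a, c)) := fun V W h a c => by
      let p : (prodPre X Y).obj V := (a, c)
      exact ConcreteCategory.congr_hom (b.naturality h) p
    refine ⟨{ app := fun W => ModuleCat.ofHom (TensorProduct.lift (tensFreeBilin b W))
              naturality := fun {V W} h => ?_ }, ?_⟩
    · apply ModuleCat.hom_ext
      refine TensorProduct.ext (Finsupp.lhom_ext' fun a => LinearMap.ext_ring
        (Finsupp.lhom_ext' fun c => LinearMap.ext_ring ?_))
      show TensorProduct.lift (tensFreeBilin b W)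
          (((freeY O X).map h (Finsupp.single a (1 : O.obj.obj V))) ⊗ₜ[O.obj.obj W]
            ((freeY O Y).map h (Finsupp.single c (1 : O.obj.obj V)))) =
        A.map h (TensorProduct.lift (tensFreeBilin b V)
          (Finsupp.single a (1 : O.obj.obj V) ⊗ₜ[O.obj.obj V] Finsupp.single c (1 : O.obj.obj V)))
      rw [key]
      refine Eq.trans ?_ ((key W (h.unop ≫ a) (h.unop ≫ c)).trans
        (hnat V W h a c))
      congr 2
      · exact ModuleCat.freeDesc_apply (M := (ModuleCat.restrictScalars ((O.obj ⋙ forget₂ CommRingCat.{u} RingCat.{u}).map h).hom).obj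
          ((freeY O X).obj W)) (↾fun x => ModuleCat.freeMk ((yoneda.obj X).map h x)) a
      · exact ModuleCat.freeDesc_apply (M := (ModuleCat.restrictScalars ((O.obj ⋙ forget₂ CommRingCat.{u} RingCat.{u}).map h).hom).obj
          ((freeY O Y).obj W)) (↾fun x => ModuleCat.freeMk ((yoneda.obj Y).map h x)) c
    · ext W p
      exact key W p.1 p.2

/-- `(h_X × h_Y)` is a product -/
noncomputable def prodPreIsLimit (X Y : C) :
    IsLimit (BinaryFan.mk (prodFst X Y) (prodSnd X Y)) :=
  BinaryFan.IsLimit.mk _
    (fun {T} s t => { app := fun W => ↾fun x => (s.app W x, t.app W x)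
                      naturality := fun V W h => by
                        ext x
                        refine Prod.ext ?_ ?_
                        · exact ConcreteCategory.congr_hom (s.naturality h) x
                        · exact ConcreteCategory.congr_hom (t.naturality h) x })
    (fun _ _ => rfl) (fun _ _ => rfl)
    (fun s t m h₁ h₂ => by
      ext W x
      refine Prod.ext ?_ ?_
      · exact ConcreteCategory.congr_hom (congr_app h₁ W) x
      · exact ConcreteCategory.congr_hom (congr_app h₂ W) x)

end Groth.Agent.SiteBase.PullTensor
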